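/-
Coset enumeration certificate: the assembled result.
-/
import Cfsg.Agent.Lib.Spor.Held.CH.Part0
import Cfsg.Agent.Lib.Spor.Held.CH.Part1
import Cfsg.Agent.Lib.Spor.Held.CH.Part2

namespace CfsgLib.Spor.Held.CH

open CfsgLib.Spor.TC

theorem steps_ok : cert.StepsOK 0 20087 :=
  ((((((steps0.append _ steps3106).append _ steps6232).append _ steps9323).append _ steps12414).append _ steps15723).append _ steps18827)

theorem rows_ok : cert.RowsOK 20087 2058 0 2058 :=
  (rows0.append _ rows1380)

theorem row_zero : cert.rowNode 0 = 0 := by decide +kernel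

end CfsgLib.Spor.Held.CH
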